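import Groth.Agent.Lib.AnSite.Eps
import Groth.Agent.Lib.AnConn.Connected
import Groth.Agent.Lib.EtSite.Basic
import Mathlib.CategoryTheory.Sites.LocallyBijective

/-!
# The unit at a constant sheaf for the comparison with the classical site
-/

set_option backward.isDefEq.respectTransparency false
set_option backward.isDefEq.respectTransparency.types false

open AlgebraicGeometry CategoryTheory CategoryTheory.Limits TopologicalSpace Opposite Topology

noncomputable section

namespace Groth.Agent.Lib.AnSiteSlice64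

open An

variable {T : Type} [TopologicalSpace T]

/-- Constant sections on the classical site. -/
def csecCl (M : Type) [AddCommGroup M] (A : Cl T) :
    ULift.{1} M → ((Cl.const T M).obj.obj (op A) : AddCommGrpCat.{1}) :=
  fun m => (toSheafify (Cl.topology T)
    ((Functor.const (Cl T)ᵒᵖ).obj (AddCommGrpCat.of (ULift.{1} M)))).app (op A) m

variable (M : Type) [AddCommGroup M]

lemma res_csecCl {A B : Cl T} (g : B ⟶ A) (m : ULift.{1} M) :
    (Cl.const T M).obj.map g.op (csecCl M A m) = csecCl M B m :=
  (NatTrans.naturality_apply (toSheafify (Cl.topology T)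
    ((Functor.const (Cl T)ᵒᵖ).obj (AddCommGrpCat.of (ULift.{1} M)))) g.op m).symm

lemma csecCl_inj {A : Cl T} (a : A.E) {m m' : ULift.{1} M} (h : csecCl M A m = csecCl M A m') :
    m = m' := by
  obtain ⟨B, g, hg, -, -⟩ := Presheaf.equalizerSieve_mem (Cl.topology T)
    (toSheafify (Cl.topology T) ((Functor.const (Cl T)ᵒᵖ).obj (AddCommGrpCat.of (ULift.{1} M))))
    (X := op A) m m' h a
  exact hg

lemma exists_open_eq_csecCl {A : Cl T} (s : ((Cl.const T M).obj.obj (op A) : AddCommGrpCat.{1}))
    (a : A.E) : ∃ (O : Set A.E) (hO : IsOpen O) (m : ULift.{1} M), a ∈ O ∧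
      (Cl.const T M).obj.map (Cl.restrictOpenι A O hO).op s = csecCl M _ m := by
  obtain ⟨B, g, ⟨m, hm⟩, hg, ha⟩ := Presheaf.imageSieve_mem (Cl.topology T)
    (toSheafify (Cl.topology T) ((Functor.const (Cl T)ᵒᵖ).obj (AddCommGrpCat.of (ULift.{1} M))))
    (U := op A) s a
  refine ⟨Set.range g.toFun, hg.isOpen_range, m, ha, ?_⟩
  let e := hg.toIsEmbedding.toHomeomorph
  let k : Cl.restrictOpen A (Set.range g.toFun) hg.isOpen_range ⟶ B := ⟨e.symm, e.symm.continuous, fun z => by
    show B.p (e.symm z) = A.p z.1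
    rw [← g.over]
    exact congrArg (fun w : Set.range g.toFun => A.p w.1) (e.apply_symm_apply z)⟩
  have hk : k ≫ g = Cl.restrictOpenι A (Set.range g.toFun) hg.isOpen_range :=
    Cl.hom_ext (funext fun z => congrArg Subtype.val (e.apply_symm_apply z))
  rw [← hk, op_comp, Functor.map_comp, ConcreteCategory.comp_apply]
  refine Eq.trans ?_ (res_csecCl M k m)
  exact congrArg ((Cl.const T M).obj.map k.op) hm.symm

lemma res_open_eq_csecCl {A : Cl T} (s : ((Cl.const T M).obj.obj (op A) : AddCommGrpCat.{1}))
    {O O' : Set A.E} (hO : IsOpen O) (hO' : IsOpen O') (h : O' ⊆ O) {m : ULift.{1} M}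
    (hs : (Cl.const T M).obj.map (Cl.restrictOpenι A O hO).op s = csecCl M _ m) :
    (Cl.const T M).obj.map (Cl.restrictOpenι A O' hO').op s = csecCl M _ m := by
  let k : Cl.restrictOpen A O' hO' ⟶ Cl.restrictOpen A O hO :=
    ⟨Set.inclusion h, continuous_inclusion h, fun _ => rfl⟩
  have hk : k ≫ Cl.restrictOpenι A O hO = Cl.restrictOpenι A O' hO' := Cl.hom_ext rfl
  rw [← hk, op_comp, Functor.map_comp, ConcreteCategory.comp_apply]
  exact (congrArg _ hs).trans (res_csecCl M k m)

lemma exists_csecCl_of_preconnected {A : Cl T}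
    (s : ((Cl.const T M).obj.obj (op A) : AddCommGrpCat.{1})) (h : PreconnectedSpace A.E) :
    ∃ m, s = csecCl M A m := by
  by_cases hne : Nonempty A.E
  swap
  · refine ⟨0, ?_⟩
    refine Sheaf.isSeparated (Cl.const T M) _ (Sieve.generate ⊥) ?_ _ _ ?_
    · exact fun a => absurd ⟨a⟩ hne
    · rintro Y f ⟨Z, a, b, hb, -⟩
      exact hb.elim
  choose O hO m ha hs using exists_open_eq_csecCl M s
  obtain ⟨a₀⟩ := hne
  have key : ∀ a b : A.E, ∀ z, z ∈ O a → z ∈ O b → m a = m b := by
    intro a b z hza hzb
    have hI := (hO a).inter (hO b)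
    exact csecCl_inj M (A := Cl.restrictOpen A _ hI) ⟨z, hza, hzb⟩
      ((res_open_eq_csecCl M s (hO a) hI Set.inter_subset_left (hs a)).symm.trans
        (res_open_eq_csecCl M s (hO b) hI Set.inter_subset_right (hs b)))
  have hloc : IsLocallyConstant m := IsLocallyConstant.iff_exists_open m |>.2 fun a =>
    ⟨O a, hO a, ha a, fun b hb => key b a b (ha b) hb⟩
  refine ⟨m a₀, ?_⟩
  refine Sheaf.isSeparated (Cl.const T M) _
    (Sieve.ofArrows _ fun a => Cl.restrictOpenι A (O a) (hO a)) ?_ _ _ ?_
  · exact fun a => ⟨_, _, Sieve.ofArrows_mk _ _ a, (hO a).isOpenEmbedding_subtypeVal, ⟨a, ha a⟩, rfl⟩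
  · intro Y f hf
    obtain ⟨a, k, rfl⟩ := (Sieve.mem_ofArrows_iff _ _ _).1 hf
    rw [op_comp, Functor.map_comp, ConcreteCategory.comp_apply, ConcreteCategory.comp_apply, hs a,
      res_csecCl, res_csecCl, res_csecCl]
    rw [hloc.apply_eq_of_isPreconnected isPreconnected_univ (Set.mem_univ a) (Set.mem_univ a₀)]

lemma unit_constantSheafAdj {C : Type*} [Category C] {J : GrothendieckTopology C} {D : Type*} [Category D]
    [HasWeakSheafify J D] {S : C} (hS : IsTerminal S) (Q : D) :
    (constantSheafAdj J D hS).unit.app Q = (toSheafify J ((Functor.const Cᵒᵖ).obj Q)).app (op S) := by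
  simp [constantSheafAdj, constantPresheafAdj]

lemma unit_ofNatIsoRight {C D : Type*} [Category C] [Category D] {F : C ⥤ D} {G H : D ⥤ C} (adj : F ⊣ G)
    (i : G ≅ H) (Q : C) : (adj.ofNatIsoRight i).unit.app Q = adj.unit.app Q ≫ i.hom.app (F.obj Q) := by
  simp [Adjunction.ofNatIsoRight]

variable (X : Scheme.{0}) [X.Over SC] [LocallyOfFiniteType (X ↘ SC)] [Fact EtaleLH] [EpsCont X]

/-- The unit at a constant sheaf followed by the identification of its inverse image. -/
def constUnit : EtCoh.const X M ⟶ (epsPush X).obj (Cl.const (Pts X) M) :=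
  (epsAdj X).unit.app (EtCoh.const X M) ≫ (epsPush X).map (epsPullConst X M).hom

lemma constUnit_csec (W : X.Etale) (m : ULift.{1} M) :
    (constUnit M X).hom.app (op W)
      ((toSheafify X.smallEtaleTopology
        ((Functor.const X.Etaleᵒᵖ).obj (AddCommGrpCat.of (ULift.{1} M)))).app (op W) m) =
      csecCl M ((eps X).obj W) m := by
  let P := (Functor.const X.Etaleᵒᵖ).obj (AddCommGrpCat.of (ULift.{1} M))
  have htop : (constUnit M X).hom.app (op (EtCoh.top X))
      ((toSheafify X.smallEtaleTopology P).app (op (EtCoh.top X)) m) =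
      csecCl M ((eps X).obj (EtCoh.top X)) m := by
    have h := Adjunction.unit_leftAdjointUniq_hom_app
      (((EtCore.constAdj X).comp (epsAdj X)).ofNatIsoRight (epsPushGsecIso X))
      (Cl.constAdj (Pts X)) (AddCommGrpCat.of (ULift.{1} M))
    rw [unit_ofNatIsoRight, Adjunction.comp_unit_app, unit_constantSheafAdj, unit_constantSheafAdj] at h
    rw [Category.assoc, ← (epsPushGsecIso X).hom.naturality] at h
    have hi : (epsPushGsecIso X).hom.app (Cl.const (Pts X) M) =
        (Cl.const (Pts X) M).obj.map (epsTopIso X).inv.op := by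
      simp [epsPushGsecIso]
    have h' := ConcreteCategory.congr_hom h m
    simp only [ConcreteCategory.comp_apply] at h'
    rw [hi] at h'
    have hinj : Function.Injective ((Cl.const (Pts X) M).obj.map (epsTopIso X).inv.op) :=
      ((ConcreteCategory.isIso_iff_bijective _).1 inferInstance).1
    apply hinj
    refine Eq.trans ?_ (res_csecCl M (epsTopIso X).inv m).symm
    exact h'
  let g := (EtCore.topIsTerminal X).from W
  have hn := NatTrans.naturality_apply (constUnit M X).hom g.op
    ((toSheafify X.smallEtaleTopology P).app (op (EtCoh.top X)) m)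
  rw [htop] at hn
  refine Eq.trans ?_ (hn.trans ?_)
  · exact congrArg _ (NatTrans.naturality_apply (toSheafify X.smallEtaleTopology P) g.op m)
  · exact res_csecCl M ((eps X).map g) m

lemma isLocallyInjective_const :
    Presheaf.IsLocallyInjective X.smallEtaleTopology
      (toSheafify X.smallEtaleTopology
        ((Functor.const X.Etaleᵒᵖ).obj (AddCommGrpCat.of (ULift.{1} M))) ≫ (constUnit M X).hom) := by
  refine ⟨fun {W} m m' h => (EtSite.Basic.mem_topology_iff _).2 fun w => ?_⟩
  have := AnSite.lft_etale X W.unop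
  obtain ⟨a⟩ := (AnConn.pts_nonempty_iff (X := W.unop.left)).2 ⟨w⟩
  have h' : csecCl M ((eps X).obj W.unop) m = csecCl M ((eps X).obj W.unop) m' :=
    ((constUnit_csec M X W.unop m).symm.trans h).trans (constUnit_csec M X W.unop m')
  exact ⟨W.unop, 𝟙 _, csecCl_inj M a h', w, rfl⟩

lemma isLocallySurjective_const :
    Presheaf.IsLocallySurjective X.smallEtaleTopology
      (toSheafify X.smallEtaleTopology
        ((Functor.const X.Etaleᵒᵖ).obj (AddCommGrpCat.of (ULift.{1} M))) ≫ (constUnit M X).hom) := by
  refine ⟨fun {W} s => (EtSite.Basic.mem_topology_iff _).2 fun w => ?_⟩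
  have := AnSite.lft_etale X W
  let O : W.left.Opens := ⟨connectedComponent w, (AnConn.isClopen_connectedComponent_scheme w).2⟩
  let V : X.Etale := Scheme.Etale.mk (O.ι ≫ W.hom)
  let g : V ⟶ W := MorphismProperty.Over.homMk O.ι rfl
  have := AnSite.lft_etale X V
  haveI : PreconnectedSpace O :=
    Subtype.preconnectedSpace isPreconnected_connectedComponent
  have hV : PreconnectedSpace ((eps X).obj V).E := by
    show PreconnectedSpace (Pts V.left)
    haveI : Nonempty V.left := ⟨⟨w, mem_connectedComponent⟩⟩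
    haveI : PreconnectedSpace V.left := inferInstanceAs (PreconnectedSpace O)
    haveI : ConnectedSpace V.left := { toPreconnectedSpace := inferInstance, toNonempty := inferInstance }
    exact (AnConn.connectedSpace_iff_pts.1 inferInstance).toPreconnectedSpace
  obtain ⟨m, hm⟩ := exists_csecCl_of_preconnected M
    ((Cl.const (Pts X) M).obj.map ((eps X).map g).op s) hV
  refine ⟨V, g, ⟨m, ?_⟩, ⟨w, mem_connectedComponent⟩, rfl⟩
  exact (constUnit_csec M X V m).trans hm.symm

/-- The unit at a constant sheaf is invertible. -/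
theorem isIso_constUnit : IsIso (constUnit M X) := by
  let J := X.smallEtaleTopology
  let P := (Functor.const X.Etaleᵒᵖ).obj (AddCommGrpCat.of (ULift.{1} M))
  let τ : P ⟶ ((epsPush X).obj (Cl.const (Pts X) M)).obj := toSheafify J P ≫ (constUnit M X).hom
  have hW : J.W τ := (J.W_iff_isLocallyBijective τ).2
    ⟨isLocallyInjective_const M X, isLocallySurjective_const M X⟩
  haveI : IsIso ((presheafToSheaf J AddCommGrpCat.{1}).map τ) := (J.W_iff τ).1 hW
  have hχ : constUnit M X = ((sheafificationAdjunction J AddCommGrpCat.{1}).homEquiv P ((epsPush X).obj (Cl.const (Pts X) M))).symm τ :=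
    ((sheafificationAdjunction J AddCommGrpCat.{1}).homEquiv P _).symm_apply_apply (constUnit M X) |>.symm
  rw [hχ, Adjunction.homEquiv_counit]
  exact IsIso.comp_isIso' this inferInstance

/-- The unit at a constant sheaf is invertible. -/
theorem isIso_unit_const : IsIso ((epsAdj X).unit.app (EtCoh.const X M)) := by
  haveI : IsIso ((epsAdj X).unit.app (EtCoh.const X M) ≫ (epsPush X).map (epsPullConst X M).hom) :=
    isIso_constUnit M X
  exact IsIso.of_isIso_comp_right ((epsAdj X).unit.app (EtCoh.const X M))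
    ((epsPush X).map (epsPullConst X M).hom)

end Groth.Agent.Lib.AnSiteSlice64
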