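import Mathlib.CategoryTheory.Sites.Over
import Mathlib.CategoryTheory.Sites.ConstantSheaf
import Mathlib.CategoryTheory.Sites.Continuous
import Mathlib.CategoryTheory.Comma.Over.Pullback
import Mathlib.CategoryTheory.Limits.Preserves.Shapes.BinaryProducts
import Mathlib.CategoryTheory.Adjunction.Unique

/-!
# Inverse images of sheaves that become constant on a slice
-/

set_option backward.isDefEq.respectTransparency false
set_option backward.isDefEq.respectTransparency.types false

universe w v₁ v₂ u₁ u₂ u₃

open CategoryTheory Limits Opposite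

namespace Groth.Agent.Lib.AnSiteSlice64

section

variable {C : Type u₁} [Category.{v₁} C] {D : Type u₂} [Category.{v₂} D]
  [HasBinaryProducts C] [HasBinaryProducts D] (F : C ⥤ D) (U : C)
  [∀ V : C, PreservesLimit (pair U V) F]

/-- Products with `U` commute with `F`. -/
noncomputable def starIso :
    Over.star U ⋙ Over.post F ≅ F ⋙ Over.star (F.obj U) :=
  NatIso.ofComponents
    (fun V => Over.isoMk (PreservesLimitPair.iso F U V) (by
      change _ ≫ ((Over.star (F.obj U)).obj (F.obj V)).hom = F.map ((Over.star U).obj V).hom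
      simp [PreservesLimitPair.iso_hom]))
    (fun {V V'} g => by
      ext1
      refine Limits.prod.hom_ext ?_ ?_ <;>
        simp [PreservesLimitPair.iso_hom, ← Functor.map_comp])

variable {A : Type u₃} [Category.{w} A] (J : GrothendieckTopology C) (K : GrothendieckTopology D)
  [F.IsContinuous J K] [(Over.post (X := U) F).IsContinuous (J.over U) (K.over (F.obj U))]

/-- Extension to the site followed by pushforward along `F`. -/
noncomputable def pushIso :
    haveI : (Over.star U ⋙ Over.post F).IsContinuous J (K.over (F.obj U)) :=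
      Functor.isContinuous_comp _ _ J (J.over U) _
    (Over.post (X := U) F).sheafPushforwardContinuous A (J.over U) (K.over (F.obj U)) ⋙
        (Over.star U).sheafPushforwardContinuous A J (J.over U) ≅
      (Over.star (F.obj U)).sheafPushforwardContinuous A K (K.over (F.obj U)) ⋙
        F.sheafPushforwardContinuous A J K :=
  haveI : (Over.star U ⋙ Over.post F).IsContinuous J (K.over (F.obj U)) :=
    Functor.isContinuous_comp _ _ J (J.over U) _
  haveI : (F ⋙ Over.star (F.obj U)).IsContinuous J (K.over (F.obj U)) :=
    Functor.isContinuous_comp _ _ J K _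
  Functor.sheafPushforwardContinuousComp' (starIso F U) A J (J.over U) (K.over (F.obj U)) ≪≫
      (Functor.sheafPushforwardContinuousComp _ _ A J K (K.over (F.obj U))).symm

/-- The identity is terminal in the slice over `F U`. -/
noncomputable def terminalPost : IsTerminal ((Over.post (X := U) F).obj (Over.mk (𝟙 U))) :=
  IsTerminal.ofIso Over.mkIdTerminal (Over.isoMk (Iso.refl _) ((Category.id_comp _).trans (F.map_id U)))

variable [HasWeakSheafify (J.over U) A] [HasWeakSheafify (K.over (F.obj U)) A]

/-- The comparison of constant sheaves on the slices. -/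
noncomputable def constComparison (M : A) :
    (constantSheaf (J.over U) A).obj M ⟶
      ((Over.post (X := U) F).sheafPushforwardContinuous A (J.over U) (K.over (F.obj U))).obj
        ((constantSheaf (K.over (F.obj U)) A).obj M) :=
  ((constantSheafAdj (J.over U) A (Over.mkIdTerminal (X := U))).homEquiv M _).symm
    ((constantSheafAdj (K.over (F.obj U)) A (terminalPost F U)).unit.app M)

/-- If a sheaf becomes constant on `U`, its inverse image becomes constant on `F U`, compatibly
with the comparison of constant sheaves. -/
theorem exists_iso_over_pullback {L : Sheaf J A ⥤ Sheaf K A}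
    (adj : L ⊣ F.sheafPushforwardContinuous A J K) (G : Sheaf J A) (M : A)
    (e : G.over U ≅ (constantSheaf (J.over U) A).obj M) :
    ∃ i : (constantSheaf (K.over (F.obj U)) A).obj M ≅ (L.obj G).over (F.obj U),
      ((Over.forget U).sheafPushforwardContinuous A (J.over U) J).map (adj.unit.app G) =
        e.hom ≫ constComparison F U J K M ≫
          ((Over.post (X := U) F).sheafPushforwardContinuous A (J.over U) (K.over (F.obj U))).map
            i.hom := by
  let ι := pushIso F U J K (A := A)
  let adjC := (Over.forgetAdjStar U).sheafPushforwardContinuous (E := A) (J.over U) J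
  let adjD := (Over.forgetAdjStar (F.obj U)).sheafPushforwardContinuous (E := A) (K.over (F.obj U)) K
  let cC := constantSheafAdj (J.over U) A (Over.mkIdTerminal (X := U))
  let cD := constantSheafAdj (K.over (F.obj U)) A (terminalPost F U)
  let N := (L.obj G).over (F.obj U)
  let h : ∀ G' : Sheaf (K.over (F.obj U)) A,
      (N ⟶ G') ≃ ((constantSheaf (K.over (F.obj U)) A).obj M ⟶ G') := fun G' =>
    (adjD.homEquiv (L.obj G) G').trans ((adj.homEquiv G _).trans
      ((ι.symm.app G').homToEquiv.trans (((adjC.homEquiv G _).symm).trans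
        (e.homFromEquiv.trans ((cC.homEquiv M _).trans (cD.homEquiv M G').symm)))))
  have hnat : ∀ {G₁ G₂ : Sheaf (K.over (F.obj U)) A} (f : N ⟶ G₁) (g : G₁ ⟶ G₂),
      h G₂ (f ≫ g) = h G₁ f ≫ g := by
    intro G₁ G₂ f g
    show (cD.homEquiv M G₂).symm ((cC.homEquiv M _) (e.inv ≫ ((adjC.homEquiv G _).symm
        (adj.homEquiv G _ (adjD.homEquiv (L.obj G) G₂ (f ≫ g)) ≫ ι.inv.app G₂)))) =
      (cD.homEquiv M G₁).symm ((cC.homEquiv M _) (e.inv ≫ ((adjC.homEquiv G _).symm
        (adj.homEquiv G _ (adjD.homEquiv (L.obj G) G₁ f) ≫ ι.inv.app G₁)))) ≫ g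
    erw [adjD.homEquiv_naturality_right, adj.homEquiv_naturality_right]
    rw [Category.assoc]
    erw [(ι.inv.naturality g)]
    rw [← Category.assoc]
    erw [adjC.homEquiv_naturality_right_symm]
    rw [← Category.assoc]
    erw [cC.homEquiv_naturality_right]
    exact cD.homEquiv_naturality_right_symm _ _
  let i := (h N) (𝟙 N)
  let j := (h _).symm (𝟙 ((constantSheaf (K.over (F.obj U)) A).obj M))
  have h1 : i ≫ j = 𝟙 _ := by
    rw [← hnat, Category.id_comp]
    exact (h _).apply_symm_apply _
  have h2 : j ≫ i = 𝟙 N := (h N).injective (by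
    rw [hnat]
    show h _ ((h _).symm (𝟙 _)) ≫ i = i
    rw [Equiv.apply_symm_apply, Category.id_comp])
  refine ⟨⟨i, j, h1, h2⟩, ?_⟩
  let β : G.over U ⟶ ((Over.post (X := U) F).sheafPushforwardContinuous A _ _).obj N :=
    (adjC.homEquiv G _).symm (adj.homEquiv G _ (adjD.homEquiv (L.obj G) N (𝟙 N)) ≫ ι.inv.app N)
  have hi : cD.homEquiv M N i = cC.homEquiv M _ (e.inv ≫ β) :=
    (cD.homEquiv M N).apply_symm_apply _
  have hβ : β = e.hom ≫ constComparison F U J K M ≫
      ((Over.post (X := U) F).sheafPushforwardContinuous A _ _).map i := by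
    rw [← Iso.inv_comp_eq]
    refine (cC.homEquiv M _).injective ?_
    refine hi.symm.trans (Eq.symm ?_)
    refine (cC.homEquiv_naturality_right _ _).trans ?_
    refine Eq.trans ?_ (cD.homEquiv_unit M N i).symm
    congr 1
    exact Equiv.apply_symm_apply _ _
  refine Eq.trans ?_ hβ
  ext V
  simp [β, ι, pushIso, adjC, adjD, starIso, Adjunction.homEquiv_unit, Adjunction.homEquiv_counit,
    ← Functor.map_comp, ← op_comp]
  refine (Category.comp_id _).symm.trans ?_
  congr 1
  erw [Category.id_comp, Category.id_comp]
  have key : (F.map (prod.lift V.unop.hom (𝟙 V.unop.left)) ≫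
      (PreservesLimitPair.iso F U V.unop.left).hom) ≫ prod.snd = 𝟙 (F.obj V.unop.left) := by
    simp [PreservesLimitPair.iso_hom, ← Functor.map_comp]
  refine Eq.symm ?_
  refine ((L.obj G).obj.map_comp _ _).symm.trans ?_
  refine Eq.trans ?_ ((L.obj G).obj.map_id _)
  congr 1
  exact congrArg Quiver.Hom.op key

end

section

variable {C : Type u₁} [Category.{v₁} C] [HasBinaryProducts C] {A : Type u₃} [Category.{w} A]
  (J : GrothendieckTopology C) (U : C) [HasWeakSheafify J A] [HasWeakSheafify (J.over U) A]

/-- The restriction of a constant sheaf is constant. -/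
theorem nonempty_iso_over_const {T : C} (hT : IsTerminal T) (M : A) :
    Nonempty (((constantSheaf J A).obj M).over U ≅ (constantSheaf (J.over U) A).obj M) := by
  let adjC := (Over.forgetAdjStar U).sheafPushforwardContinuous (E := A) (J.over U) J
  let hU : IsTerminal ((Over.star U).obj T) := IsTerminal.isTerminalObj (Over.star U) T hT
  exact ⟨((((constantSheafAdj J A hT).comp adjC).leftAdjointUniq
    ((constantSheafAdj (J.over U) A hU).ofNatIsoRight (Iso.refl _))).app M)⟩

end

end Groth.Agent.Lib.AnSiteSlice64
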