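import Groth.Agent.Lib.AnSiteSlice64.Prod
import Groth.Agent.Lib.AnSiteSlice64.Slice
import Groth.Agent.Lib.AnSiteSlice64.Const

/-!
# Finite locally constant étale sheaves and the classical site
-/

set_option backward.isDefEq.respectTransparency false
set_option backward.isDefEq.respectTransparency.types false

open AlgebraicGeometry CategoryTheory CategoryTheory.Limits TopologicalSpace Opposite Topology

noncomputable section

namespace Groth.Agent.Lib.AnSiteSlice64

open An

variable (X : Scheme.{0}) [X.Over SC] [LocallyOfFiniteType (X ↘ SC)] [Fact EtaleLH] [EpsCont X]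

instance preservesOneHypercovers_eps :
    Functor.PreservesOneHypercovers.{1} (eps X) X.smallEtaleTopology (Cl.topology (Pts X)) :=
  Functor.PreservesOneHypercovers.of_coverPreserving (AnSite.eps_coverPreserving X)

instance (U : X.Etale) :
    (Over.post (X := U) (eps X)).IsContinuous (X.smallEtaleTopology.over U)
      ((Cl.topology (Pts X)).over ((eps X).obj U)) :=
  Functor.isContinuous_of_preservesOneHypercovers.{1} _ _ _

theorem isIso_unit_over (F : EtCoh.Ab X) (U : X.Etale) (M : Type) [AddCommGroup M]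
    (e : EtCoh.restr F U ≅ (constantSheaf (X.smallEtaleTopology.over U) AddCommGrpCat.{1}).obj
      (AddCommGrpCat.of (ULift.{1} M))) :
    IsIso (((Over.forget U).sheafPushforwardContinuous AddCommGrpCat.{1}
      (X.smallEtaleTopology.over U) X.smallEtaleTopology).map ((epsAdj X).unit.app F)) ∧
    Nonempty (((epsPull X).obj F).over ((eps X).obj U) ≅
      (Cl.const (Pts X) M).over ((eps X).obj U)) := by
  obtain ⟨e₁⟩ := nonempty_iso_over_const X.smallEtaleTopology U (EtCore.topIsTerminal X)
    (AddCommGrpCat.of (ULift.{1} M))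
  obtain ⟨i₁, h₁⟩ := exists_iso_over_pullback (eps X) U X.smallEtaleTopology (Cl.topology (Pts X))
    (epsAdj X) (EtCoh.const X M) _ e₁
  obtain ⟨i, h⟩ := exists_iso_over_pullback (eps X) U X.smallEtaleTopology (Cl.topology (Pts X))
    (epsAdj X) F _ e
  haveI := isIso_unit_const M X
  haveI hu : IsIso (constComparison (eps X) U X.smallEtaleTopology (Cl.topology (Pts X))
      (AddCommGrpCat.of (ULift.{1} M))) := by
    haveI : IsIso (e₁.hom ≫ constComparison (eps X) U X.smallEtaleTopology (Cl.topology (Pts X))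
      (AddCommGrpCat.of (ULift.{1} M)) ≫ ((Over.post (X := U) (eps X)).sheafPushforwardContinuous
        AddCommGrpCat.{1} (X.smallEtaleTopology.over U)
          ((Cl.topology (Pts X)).over ((eps X).obj U))).map i₁.hom) := by
      rw [← h₁]; infer_instance
    haveI := IsIso.of_isIso_comp_left e₁.hom (constComparison (eps X) U X.smallEtaleTopology
      (Cl.topology (Pts X)) (AddCommGrpCat.of (ULift.{1} M)) ≫
        ((Over.post (X := U) (eps X)).sheafPushforwardContinuous
        AddCommGrpCat.{1} (X.smallEtaleTopology.over U)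
          ((Cl.topology (Pts X)).over ((eps X).obj U))).map i₁.hom)
    exact IsIso.of_isIso_comp_right _ (((Over.post (X := U) (eps X)).sheafPushforwardContinuous
      AddCommGrpCat.{1} (X.smallEtaleTopology.over U)
        ((Cl.topology (Pts X)).over ((eps X).obj U))).map i₁.hom)
  obtain ⟨c⟩ := nonempty_iso_over_const (Cl.topology (Pts X)) ((eps X).obj U)
    (Cl.selfIsTerminal (Pts X)) (AddCommGrpCat.of (ULift.{1} M))
  exact ⟨by rw [h]; infer_instance, ⟨i.symm ≪≫ c.symm⟩⟩

theorem isIso_unit_and_isFiniteLocallyConstant (F : EtCoh.Ab X) (hF : EtCoh.IsFiniteLocallyConstant F) :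
    IsIso ((epsAdj X).unit.app F) ∧ Cl.IsFiniteLocallyConstant ((epsPull X).obj F) := by
  obtain ⟨ι, U, hU, hM⟩ := hF
  choose M hA hfin e using hM
  refine ⟨?_, ι, fun i => (eps X).obj (U i), ?_, fun i =>
    ⟨M i, hA i, hfin i, (isIso_unit_over X F (U i) (M i) (e i).some).2⟩⟩
  · let φ := (epsAdj X).unit.app F
    have hbij : ∀ (i : ι) (V : X.Etale) (g : V ⟶ U i), IsIso (φ.hom.app (op V)) := by
      intro i V g
      haveI := (isIso_unit_over X F (U i) (M i) (e i).some).1
      exact inferInstanceAs (IsIso (((sheafToPresheaf _ _).map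
        (((Over.forget (U i)).sheafPushforwardContinuous AddCommGrpCat.{1}
          (X.smallEtaleTopology.over (U i)) X.smallEtaleTopology).map φ)).app (op (Over.mk g))))
    have hS : ∀ (W : X.Etale) (w : W.left), ∃ (i : ι) (V : X.Etale) (g : V ⟶ W) (_ : V ⟶ U i),
        w ∈ Set.range g.left.base := by
      intro W w
      obtain ⟨i, y, hy⟩ := hU (W.hom.base w)
      obtain ⟨z, hz₁, -⟩ := Scheme.Pullback.exists_preimage_pullback (f := W.hom) (g := (U i).hom) w y hy.symm
      exact ⟨i, Scheme.Etale.mk (pullback.fst W.hom (U i).hom ≫ W.hom),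
        MorphismProperty.Over.homMk (pullback.fst W.hom (U i).hom) rfl,
        MorphismProperty.Over.homMk (pullback.snd W.hom (U i).hom) pullback.condition.symm, z, hz₁⟩
    haveI hinj : Presheaf.IsLocallyInjective X.smallEtaleTopology φ.hom := by
      refine ⟨fun {W} s s' h => (EtSite.Basic.mem_topology_iff _).2 fun w => ?_⟩
      obtain ⟨i, V, g, k, hw⟩ := hS W.unop w
      haveI := hbij i V k
      refine ⟨V, g, ((ConcreteCategory.isIso_iff_bijective (φ.hom.app (op V))).1 inferInstance).1 ?_, hw⟩
      rw [NatTrans.naturality_apply, NatTrans.naturality_apply, h]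
    haveI hsurj : Presheaf.IsLocallySurjective X.smallEtaleTopology φ.hom := by
      refine ⟨fun {W} s => (EtSite.Basic.mem_topology_iff _).2 fun w => ?_⟩
      obtain ⟨i, V, g, k, hw⟩ := hS W w
      haveI := hbij i V k
      exact ⟨V, g, ((ConcreteCategory.isIso_iff_bijective (φ.hom.app (op V))).1 inferInstance).2 _, hw⟩
    exact (Sheaf.isLocallyBijective_iff_isIso φ).1 ⟨hinj, hsurj⟩
  · intro t
    obtain ⟨i, y, hy⟩ := hU (Pts.pt t)
    haveI := AnSite.lft_etale X (U i)
    obtain ⟨a, ha⟩ : t ∈ Set.range (Pts.map (X := (U i).left) (Y := X) ((U i).left ↘ X)) := by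
      rw [AnPts.range_map_eq]
      exact ⟨y, hy⟩
    exact ⟨i, a, ha⟩

end Groth.Agent.Lib.AnSiteSlice64
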