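import Groth.Prelude.Def_AnCl
import Mathlib.Topology.IsLocalHomeomorph
import Mathlib.CategoryTheory.Limits.Shapes.BinaryProducts

/-!
# Binary products in the classical site
-/

open CategoryTheory CategoryTheory.Limits Topology

noncomputable section

universe u

namespace Groth.Agent.Lib.AnSiteSlice64

open An

variable {T : Type u} [TopologicalSpace T]

lemma isLocalHomeomorph_fst (A B : Cl T) :
    IsLocalHomeomorph (fun z : {z : A.E × B.E // A.p z.1 = B.p z.2} => z.1.1) := by
  classical
  intro z₀
  obtain ⟨e, he, hep⟩ := B.lh z₀.1.2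
  have hep' : ∀ b, B.p b = e b := fun b => congrFun hep b
  let inv : A.E → {z : A.E × B.E // A.p z.1 = B.p z.2} := fun a =>
    if h : A.p a ∈ e.target then ⟨(a, e.symm (A.p a)), by
      show A.p a = B.p (e.symm (A.p a))
      rw [hep', e.right_inv h]⟩ else z₀
  refine ⟨{
    toFun := fun z => z.1.1
    invFun := inv
    source := {z | z.1.2 ∈ e.source}
    target := A.p ⁻¹' e.target
    map_source' := fun z hz => by
      show A.p z.1.1 ∈ e.target
      rw [z.2, hep']
      exact e.map_source hz
    map_target' := fun a ha => by
      show (inv a).1.2 ∈ e.source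
      simp only [inv, dif_pos (show A.p a ∈ e.target from ha)]
      exact e.map_target ha
    left_inv' := fun z hz => by
      have h : A.p z.1.1 ∈ e.target := by
        rw [z.2, hep']
        exact e.map_source hz
      apply Subtype.ext
      simp only [inv, dif_pos h]
      refine Prod.ext rfl ?_
      show e.symm (A.p z.1.1) = z.1.2
      rw [z.2, hep', e.left_inv hz]
    right_inv' := fun a ha => by
      simp only [inv, dif_pos (show A.p a ∈ e.target from ha)]
    open_source := e.open_source.preimage (continuous_snd.comp continuous_subtype_val)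
    open_target := e.open_target.preimage A.lh.continuous
    continuousOn_toFun := (continuous_fst.comp continuous_subtype_val).continuousOn
    continuousOn_invFun := by
      rw [IsInducing.subtypeVal.continuousOn_iff]
      refine ContinuousOn.congr (f := fun a => (a, e.symm (A.p a))) ?_ ?_
      · exact continuousOn_id.prodMk (e.continuousOn_symm.comp A.lh.continuous.continuousOn
          fun a ha => ha)
      · intro a ha
        simp only [Function.comp_apply, inv, dif_pos (show A.p a ∈ e.target from ha)] }, ?_, rfl⟩
  exact he

/-- The fibre product over the base. -/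
def prodObj (A B : Cl T) : Cl T :=
  ⟨{z : A.E × B.E // A.p z.1 = B.p z.2}, fun z => A.p z.1.1,
    A.lh.comp (isLocalHomeomorph_fst A B)⟩

/-- First projection. -/
def prodFst (A B : Cl T) : prodObj A B ⟶ A :=
  ⟨fun z => z.1.1, continuous_fst.comp continuous_subtype_val, fun _ => rfl⟩

/-- Second projection. -/
def prodSnd (A B : Cl T) : prodObj A B ⟶ B :=
  ⟨fun z => z.1.2, continuous_snd.comp continuous_subtype_val, fun z => z.2.symm⟩

/-- The fibre product is the product. -/
def prodIsLimit (A B : Cl T) : IsLimit (BinaryFan.mk (prodFst A B) (prodSnd A B)) :=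
  BinaryFan.IsLimit.mk _
    (fun {C} f g => (⟨fun c => ⟨(f.toFun c, g.toFun c), (f.over c).trans (g.over c).symm⟩,
      (f.continuous.prodMk g.continuous).subtype_mk _, fun c => f.over c⟩ : C ⟶ prodObj A B))
    (fun f g => Cl.hom_ext rfl) (fun f g => Cl.hom_ext rfl)
    (fun f g m h₁ h₂ => Cl.hom_ext (funext fun c => Subtype.ext (Prod.ext
      (congrFun (congrArg Cl.Hom.toFun h₁) c) (congrFun (congrArg Cl.Hom.toFun h₂) c))))

instance hasBinaryProducts : HasBinaryProducts (Cl T) :=
  haveI : ∀ {A B : Cl T}, HasLimit (pair A B) := fun {A B} => ⟨⟨⟨_, prodIsLimit A B⟩⟩⟩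
  hasBinaryProducts_of_hasLimit_pair _

end Groth.Agent.Lib.AnSiteSlice64
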